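import Groth.Agent.GeomQuot4.Sep
import Groth.Agent.Var76.Kleiman
import Mathlib.AlgebraicGeometry.AlgClosed.Basic
import Mathlib.AlgebraicGeometry.Morphisms.LocalFlatDescent

/-! Homogeneity of the geometric generic fibre of a geometric quotient. -/

universe u

open CategoryTheory CategoryTheory.Limits MonoidalCategory CartesianMonoidalCategory MonObj AlgebraicGeometry Opposite

set_option autoImplicit false
set_option backward.isDefEq.respectTransparency false
set_option backward.isDefEq.respectTransparency.types false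

namespace Groth.Agent.GeomQuot4

theorem isReduced_quot {S : Scheme.{u}} {G X Y : Over S} [GrpObj G] {a : AlgGrp.Action G X} {π : X ⟶ Y}
    [IsReduced X.left] (hπ : GIT.IsGeomQuot a π) : IsReduced Y.left :=
  ⟨fun U => isReduced_of_injective (π.left.app U).hom (hπ.sections U).1⟩

variable {K : Type u} [Field K] {Γ X Y : Over (Spec (CommRingCat.of K))} [GrpObj Γ]
  (a : AlgGrp.Action Γ X) {π : X ⟶ Y}

/-- The translation of a fibre of the quotient map by a point of the group. -/
theorem exists_translate (hπ : GIT.IsGeomQuot a π) {Ω : Type u} [Field Ω] {P : Scheme.{u}}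
    {ω : Spec (CommRingCat.of Ω) ⟶ Y.left} (j : P ⟶ X.left) (q : P ⟶ Spec (CommRingCat.of Ω))
    (h : IsPullback j q π.left ω) (g : Over.mk (ω ≫ Y.hom) ⟶ Γ) :
    ∃ α : P ⟶ P, IsIso α ∧ α ≫ q = q ∧ ∀ (σ : Spec (CommRingCat.of Ω) ⟶ P) (hσ : σ ≫ q = 𝟙 _)
      (f f' : Over.mk (ω ≫ Y.hom) ⟶ X), f.left = σ ≫ j → lift g f ≫ a.act = f' → (σ ≫ α) ≫ j = f'.left := by
  let T : Over (Spec (CommRingCat.of K)) := Over.mk (ω ≫ Y.hom)
  let P' : Over (Spec (CommRingCat.of K)) := Over.mk (j ≫ X.hom)
  let pr : P' ⟶ X := Over.homMk j rfl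
  let qq : P' ⟶ T := Over.homMk q (by
    change q ≫ ω ≫ Y.hom = j ≫ X.hom
    rw [← Category.assoc, ← h.w, Category.assoc, Over.w π])
  have sq : pr ≫ π = qq ≫ Over.homMk (U := T) ω rfl := Over.OverMorphism.ext h.w
  let tr (g : T ⟶ Γ) : P ⟶ P := h.lift (lift (qq ≫ g) pr ≫ a.act).left q (by
    have e : lift (qq ≫ g) pr ≫ a.act ≫ π = qq ≫ Over.homMk (U := T) ω rfl := by
      rw [hπ.inv, lift_snd_assoc, sq]
    exact congrArg Over.Hom.left e)
  let trO (g : T ⟶ Γ) : P' ⟶ P' := Over.homMk (tr g) (by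
    change tr g ≫ j ≫ X.hom = j ≫ X.hom
    rw [← Category.assoc, h.lift_fst, Over.w]
    rfl)
  have h₁ : ∀ g, trO g ≫ pr = lift (qq ≫ g) pr ≫ a.act := fun g => Over.OverMorphism.ext (h.lift_fst _ _ _)
  have h₂ : ∀ g, trO g ≫ qq = qq := fun g => Over.OverMorphism.ext (h.lift_snd _ _ _)
  have hmul : ∀ g g' : T ⟶ Γ, trO g' ≫ trO g ≫ pr = lift (qq ≫ (g * g')) pr ≫ a.act := fun g g' => by
    rw [h₁, ← Category.assoc, comp_lift, ← Category.assoc, h₂, h₁, ← AlgGrp79.mul_act', MonObj.comp_mul]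
  have hinv : ∀ g, tr g ≫ tr g⁻¹ = 𝟙 P := fun g => by
    apply h.hom_ext
    · have e := hmul g⁻¹ g
      rw [inv_mul_cancel, MonObj.comp_one, AlgGrp79.one_act'] at e
      have e' := congrArg Over.Hom.left e
      rw [Category.assoc]
      simpa [trO, pr] using e'
    · simp only [Category.assoc, Category.id_comp, tr, h.lift_snd]
  refine ⟨tr g, ⟨tr g⁻¹, hinv g, by simpa using hinv g⁻¹⟩, h.lift_snd _ _ _, ?_⟩
  intro σ hσ f f' hf hf'
  let s : T ⟶ P' := Over.homMk σ (by
    change σ ≫ j ≫ X.hom = ω ≫ Y.hom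
    rw [← Category.assoc, ← hf, Over.w]
    rfl)
  have hs₁ : s ≫ pr = f := Over.OverMorphism.ext hf.symm
  have hs₂ : s ≫ qq = 𝟙 T := Over.OverMorphism.ext hσ
  have e : s ≫ trO g ≫ pr = f' := by
    rw [h₁, ← Category.assoc, comp_lift, hs₁, ← Category.assoc, hs₂, Category.id_comp, hf']
  rw [Category.assoc]
  exact congrArg Over.Hom.left e

set_option maxHeartbeats 800000 in
/-- A geometrically reduced fibre of a geometric quotient is smooth. -/
theorem smooth_geometricFibre [LocallyOfFiniteType Γ.hom] [LocallyOfFiniteType X.hom]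
    (hπ : GIT.IsGeomQuot a π) {Ω : Type u} [Field Ω] [IsAlgClosed Ω] {P : Scheme.{u}} [IsReduced P]
    {ω : Spec (CommRingCat.of Ω) ⟶ Y.left} (j : P ⟶ X.left) (q : P ⟶ Spec (CommRingCat.of Ω))
    (h : IsPullback j q π.left ω) : Smooth q := by
  have : LocallyOfFiniteType (π.left ≫ Y.hom) := by rw [Over.w]; infer_instance
  have : LocallyOfFiniteType π.left := locallyOfFiniteType_of_comp π.left Y.hom
  have : LocallyOfFiniteType q := MorphismProperty.of_isPullback (P := @LocallyOfFiniteType) h ‹_›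
  refine Var76.Kleiman.smooth_of_homogeneous q fun x y hx hy => ?_
  let T : Over (Spec (CommRingCat.of K)) := Over.mk (ω ≫ Y.hom)
  let σx := pointOfClosedPoint q x hx
  let σy := pointOfClosedPoint q y hy
  have hsx : σx ≫ q = 𝟙 _ := pointOfClosedPoint_comp q x hx
  have hsy : σy ≫ q = 𝟙 _ := pointOfClosedPoint_comp q y hy
  have hfx : (σx ≫ j) ≫ π.left = ω := by rw [Category.assoc, h.w, ← Category.assoc, hsx, Category.id_comp]
  have hfy : (σy ≫ j) ≫ π.left = ω := by rw [Category.assoc, h.w, ← Category.assoc, hsy, Category.id_comp]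
  let fx : T ⟶ X := Over.homMk (σx ≫ j) (by rw [← Over.w π, ← Category.assoc, hfx]; rfl)
  let fy : T ⟶ X := Over.homMk (σy ≫ j) (by rw [← Over.w π, ← Category.assoc, hfy]; rfl)
  let p : Spec (CommRingCat.of Ω) ⟶ pullback π.left π.left :=
    pullback.lift (σy ≫ j) (σx ≫ j) (hfy.trans hfx.symm)
  let Ψ := GIT.PsiY a π hπ.inv
  have : LocallyOfFiniteType (snd Γ X).left :=
    MorphismProperty.pullback_snd (P := @LocallyOfFiniteType) Γ.hom X.hom ‹_›
  have : LocallyOfFiniteType (Ψ ≫ pullback.snd π.left π.left) := by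
    rw [show Ψ ≫ pullback.snd π.left π.left = (snd Γ X).left from pullback.lift_snd _ _ _]; infer_instance
  have : LocallyOfFiniteType Ψ := locallyOfFiniteType_of_comp Ψ (pullback.snd π.left π.left)
  have : Surjective Ψ := ⟨hπ.orbit⟩
  let r := pullback.snd Ψ p
  have := LocallyOfFiniteType.jacobsonSpace r
  obtain ⟨w, -⟩ := r.surjective (IsLocalRing.closedPoint Ω)
  obtain ⟨z, -, hz⟩ := nonempty_inter_closedPoints (X := ↥(pullback Ψ p)) (Z := Set.univ) ⟨w, trivial⟩
    isOpen_univ.isLocallyClosed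
  let σ := pointOfClosedPoint r z hz
  let m : Spec (CommRingCat.of Ω) ⟶ (Γ ⊗ X).left := σ ≫ pullback.fst Ψ p
  have hm : m ≫ Ψ = p := by
    simp only [m, Category.assoc, pullback.condition]
    rw [← Category.assoc, pointOfClosedPoint_comp, Category.id_comp]
  have hm₁ : m ≫ a.act.left = σy ≫ j := by
    rw [← pullback.lift_fst (σy ≫ j) (σx ≫ j) (hfy.trans hfx.symm),
      ← pullback.lift_fst a.act.left (snd Γ X).left hπ.inv.left, ← Category.assoc]
    exact congrArg (· ≫ pullback.fst π.left π.left) hm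
  have hm₂ : m ≫ (snd Γ X).left = σx ≫ j := by
    rw [← pullback.lift_snd (σy ≫ j) (σx ≫ j) (hfy.trans hfx.symm),
      ← pullback.lift_snd a.act.left (snd Γ X).left hπ.inv.left, ← Category.assoc]
    exact congrArg (· ≫ pullback.snd π.left π.left) hm
  let M : T ⟶ Γ ⊗ X := Over.homMk m (by
    rw [← Over.w a.act, ← Category.assoc, hm₁]
    exact Over.w fy)
  have hM : lift (M ≫ fst _ _) fx ≫ a.act = fy := by
    have e₂ : fx = M ≫ snd _ _ := Over.OverMorphism.ext hm₂.symm
    rw [e₂, ← comp_lift, lift_fst_snd, Category.comp_id]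
    exact Over.OverMorphism.ext hm₁
  obtain ⟨α, hα, hαq, hα'⟩ := exists_translate a hπ j q h (M ≫ fst _ _)
  refine ⟨α, hα, hαq, ?_⟩
  have e : σx ≫ α = σy := by
    refine h.hom_ext (hα' σx hsx fx fy rfl hM) ?_
    rw [Category.assoc, hαq, hsx, hsy]
  have ex : σx (IsLocalRing.closedPoint Ω) = x := pointOfClosedPoint_apply q x hx _
  have ey : σy (IsLocalRing.closedPoint Ω) = y := pointOfClosedPoint_apply q y hy _
  refine Eq.trans (congrArg α ex.symm) ?_
  rw [← Scheme.Hom.comp_apply, e, ey]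

/-- The generic fibre of a geometric quotient is smooth. -/
theorem smooth_genericFibre [IsIntegral X.left] [Smooth Γ.hom] [LocallyOfFiniteType Γ.hom] [QuasiCompact Γ.hom]
    [LocallyOfFiniteType X.hom] [IsIntegral Y.left] (hπ : GIT.IsGeomQuot a π) :
    Smooth (π.left.fiberToSpecResidueField (genericPoint Y.left)) := by
  let y₀ := genericPoint Y.left
  let L : Type u := Y.left.residueField y₀
  let Ω : Type u := AlgebraicClosure L
  let f : Spec (CommRingCat.of Ω) ⟶ Spec (CommRingCat.of L) := Spec.map (CommRingCat.ofHom (algebraMap L Ω))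
  let g := π.left.fiberToSpecResidueField y₀
  have hred := geometricallyReduced_fibre a hπ
  have : IsReduced (pullback g f) := hred.geometrically_isReduced _ _ _ (IsPullback.of_hasPullback g f)
  have hq : Smooth (pullback.snd g f) :=
    smooth_geometricFibre a hπ (pullback.fst g f ≫ π.left.fiberι y₀) (pullback.snd g f)
      ((IsPullback.of_hasPullback g f).paste_horiz (IsPullback.of_hasPullback π.left (Y.left.fromSpecResidueField y₀)))
  have : Subsingleton ↥(Spec (CommRingCat.of L)) := inferInstanceAs (Subsingleton (PrimeSpectrum L))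
  have hf : (@Surjective ⊓ @Flat ⊓ @QuasiCompact : MorphismProperty Scheme.{u}) f := by
    refine ⟨⟨⟨Function.surjective_to_subsingleton _⟩, ?_⟩, inferInstance⟩
    rw [Flat.SpecMap_iff]
    exact RingHom.flat_algebraMap_iff.2 inferInstance
  exact MorphismProperty.of_pullback_snd_of_descendsAlong (P := @Smooth) hf hq

end Groth.Agent.GeomQuot4
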