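import Groth.Agent.GeomQuot4.Setup

/-! Independence of translates of rational functions over the invariant field. -/

universe u

open CategoryTheory CategoryTheory.Limits MonoidalCategory CartesianMonoidalCategory MonObj AlgebraicGeometry Opposite

set_option autoImplicit false
set_option backward.isDefEq.respectTransparency false
set_option backward.isDefEq.respectTransparency.types false

namespace Groth.Agent.GeomQuot4

variable {K : Type u} [Field K] {Γ X : Over (Spec (CommRingCat.of K))} [GrpObj Γ] [IsIntegral X.left]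
  (a : AlgGrp.Action Γ X)

/-- A rational function whose translate agrees with itself at all generic field points. -/
def IsInvRat (c : X.left.functionField) : Prop :=
  ∀ (E : Type u) [Field E] (p : Spec (CommRingCat.of E) ⟶ (Γ ⊗ genObj X).left)
    (φ₀ φ₁ : X.left.functionField ⟶ CommRingCat.of E),
    p ≫ genSnd (Γ := Γ) = Spec.map φ₀ →
    p ≫ (genAct a).left = Spec.map φ₁ ≫ X.left.fromSpecStalk (genericPoint X.left) → φ₀ c = φ₁ c

theorem universallyOpen_to_field {L : Type u} [Field L] {T : Scheme.{u}} (f : T ⟶ Spec (CommRingCat.of L)) :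
    UniversallyOpen f := inferInstance

theorem exists_homs {E : Type u} [Field E] (p : Spec (CommRingCat.of E) ⟶ (Γ ⊗ genObj X).left)
    (hp : ∀ e, (genAct a).left (p e) = genericPoint X.left) :
    ∃ φ₀ φ₁ : X.left.functionField ⟶ CommRingCat.of E, p ≫ genSnd (Γ := Γ) = Spec.map φ₀ ∧
      p ≫ (genAct a).left = Spec.map φ₁ ≫ X.left.fromSpecStalk (genericPoint X.left) := by
  obtain ⟨φ₀, h₀⟩ := Spec.map_surjective (p ≫ genSnd (Γ := Γ))
  obtain ⟨φ₁, h₁⟩ := exists_hom_of_generic (p ≫ (genAct a).left) hp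
  exact ⟨φ₀, φ₁, h₀.symm, h₁.symm⟩

variable [Smooth Γ.hom] (V : X.left.Opens) [Nonempty V] {I : Type u} [Fintype I] (s : I → Γ(X.left, V))
  (U : (Γ ⊗ genObj X).left.Opens) (hUV : ∀ w ∈ U, (genAct a).left w ∈ V)

/-- The structure morphism of the chart. -/
noncomputable abbrev chartSnd : U.toScheme ⟶ Spec X.left.functionField := U.ι ≫ genSnd (Γ := Γ)

/-- The translates. -/
noncomputable def tr (i : I) : Γ(U.toScheme, ⊤) :=
  pullSec V (U.ι ≫ (genAct a).left) (fun w => hUV _ w.2) (s i)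

theorem pull_relation {E : Type u} [Field E] (c : I → X.left.functionField)
    (hc : ∑ i, cst (chartSnd U) (c i) * tr a V s U hUV i = 0)
    (p : Spec (CommRingCat.of E) ⟶ (Γ ⊗ genObj X).left) (hpU : ∀ e, p e ∈ U)
    (φ₀ φ₁ : X.left.functionField ⟶ CommRingCat.of E) (h₀ : p ≫ genSnd (Γ := Γ) = Spec.map φ₀)
    (h₁ : p ≫ (genAct a).left = Spec.map φ₁ ≫ X.left.fromSpecStalk (genericPoint X.left)) :
    ∑ i, φ₀ (c i) * φ₁ (X.left.germToFunctionField V (s i)) = 0 := by
  let p' : Spec (CommRingCat.of E) ⟶ U.toScheme :=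
    IsOpenImmersion.lift U.ι p (by rw [U.range_ι]; rintro _ ⟨e, rfl⟩; exact hpU e)
  have hp' : p' ≫ U.ι = p := IsOpenImmersion.lift_fac _ _ _
  apply (cst (𝟙 (Spec (CommRingCat.of E)))).injective
  rw [map_zero, ← map_zero p'.appTop.hom, ← hc, map_sum, map_sum]
  refine Finset.sum_congr rfl fun i _ => ?_
  rw [map_mul, map_mul]
  congr 1
  · rw [cst_comp, ← Category.assoc, hp', h₀]
    exact (cst_comp_specMap (𝟙 _) φ₀ _).symm.trans (congrArg (fun q => cst q (c i)) (Category.id_comp _))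
  · have hm : ∀ t, (p' ≫ U.ι ≫ (genAct a).left) t ∈ V := fun t => hUV _ (p' t).2
    have e : p' ≫ U.ι ≫ (genAct a).left = Spec.map φ₁ ≫ X.left.fromSpecStalk (genericPoint X.left) := by
      rw [← Category.assoc, hp', h₁]
    have hV : ∀ t, (Spec.map φ₁ ≫ X.left.fromSpecStalk (genericPoint X.left)) t ∈ V := e ▸ hm
    rw [← pullSec_generic V φ₁ hV (s i), pullSec_congr V e.symm hV hm]
    exact (pullSec_comp V p' (U.ι ≫ (genAct a).left) (fun w => hUV _ w.2) hm (s i)).symm

theorem isInvRat_of_relation (hUaff : IsAffineOpen U) (hUd : Dense (U : Set ↥(Γ ⊗ genObj X).left))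
    (t : Finset I) (i₀ : I)
    (hind : ∀ e : I → X.left.functionField, (∀ i, i ∉ t → e i = 0) → e i₀ = 0 →
      ∑ i, cst (chartSnd U) (e i) * tr a V s U hUV i = 0 → e = 0)
    (c : I → X.left.functionField) (hsupp : ∀ i, i ∉ t → c i = 0) (h1 : c i₀ = 1)
    (hc : ∑ i, cst (chartSnd U) (c i) * tr a V s U hUV i = 0) (i : I) : IsInvRat a (c i) := by
  classical
  intro E _ p φ₀ φ₁ h₀ h₁
  let T₁ : Over (Spec (CommRingCat.of K)) := Over.mk (p ≫ (Γ ⊗ genObj X).hom)
  let p' : T₁ ⟶ Γ ⊗ genObj X := Over.homMk p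
  let h : T₁ ⟶ Γ := p' ≫ fst _ _
  let x : T₁ ⟶ genObj X := p' ≫ snd _ _
  let y : T₁ ⟶ genObj X := Over.homMk (Spec.map φ₁) (by
    change Spec.map φ₁ ≫ X.left.fromSpecStalk (genericPoint X.left) ≫ X.hom = p ≫ _
    rw [← Category.assoc, ← h₁, Category.assoc, Over.w (genAct a)])
  have hy : lift h (x ≫ genPt X) ≫ a.act = y ≫ genPt X := by
    refine Eq.trans ?_ (Over.OverMorphism.ext h₁ : p' ≫ genAct a = y ≫ genPt X)
    simp only [genAct, ← Category.assoc]
    congr 1
    ext1 <;> simp [h, x]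
  have hx : x.left = Spec.map φ₀ := h₀
  let θ₀ : Γ ⊗ T₁ ≅ Γ ⊗ T₁ :=
    { hom := lift (fst Γ T₁ * (snd Γ T₁ ≫ h)) (snd Γ T₁)
      inv := lift (fst Γ T₁ * (snd Γ T₁ ≫ h)⁻¹) (snd Γ T₁)
      hom_inv_id := by
        ext1
        · simp [MonObj.comp_mul, GrpObj.comp_inv, mul_assoc]
        · simp
      inv_hom_id := by
        ext1
        · simp [MonObj.comp_mul, GrpObj.comp_inv, mul_assoc]
        · simp }
  let θ : Γ ⊗ T₁ ⟶ Γ ⊗ genObj X := θ₀.hom ≫ (Γ ◁ x)
  have hθm : θ ≫ genAct a = (Γ ◁ y) ≫ genAct a := by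
    have h2 : θ ≫ (Γ ◁ genPt X) = lift (fst Γ T₁ * (snd Γ T₁ ≫ h)) (snd Γ T₁ ≫ x ≫ genPt X) := by
      ext1 <;> simp [θ, θ₀]
    have h3 : (Γ ◁ y) ≫ (Γ ◁ genPt X) = lift (fst Γ T₁) (snd Γ T₁ ≫ y ≫ genPt X) := by
      ext1 <;> simp
    simp only [genAct, ← Category.assoc]
    rw [h2, h3, AlgGrp79.mul_act', ← hy, AlgGrp79.comp_lift_act]
  have hθs : θ.left ≫ genSnd (Γ := Γ) = (snd Γ T₁).left ≫ Spec.map φ₀ := by
    have e : θ ≫ snd Γ (genObj X) = snd Γ T₁ ≫ x := by simp [θ, θ₀]
    have e' := congrArg Over.Hom.left e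
    exact e'.trans (by rw [← hx]; rfl)
  have : Smooth (snd Γ T₁).left := MorphismProperty.pullback_snd (P := @Smooth) Γ.hom T₁.hom ‹_›
  have : IsReduced T₁.left := inferInstanceAs (IsReduced (Spec (CommRingCat.of E)))
  have : IsReduced (Γ ⊗ T₁).left := SpFP87.isReduced_of_smooth (snd Γ T₁).left
  have : UniversallyOpen (Γ ◁ x).left :=
    MorphismProperty.of_isPullback (P := @UniversallyOpen) (SGA3a.QuotDiag.isPullback_whiskerLeft_snd Γ x)
      (hx.symm ▸ universallyOpen_to_field (L := X.left.functionField) (Spec.map φ₀))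
  have : IsIso θ₀.hom.left := (inferInstance : IsIso ((Over.forget _).mapIso θ₀).hom)
  have : UniversallyOpen θ.left := inferInstanceAs (UniversallyOpen (θ₀.hom.left ≫ (Γ ◁ x).left))
  let ρ : (Γ ⊗ T₁).left ⟶ (Γ ⊗ genObj X).left := (Γ ◁ y).left
  let U₁ := ρ ⁻¹ᵁ U
  let α : U₁.toScheme ⟶ U.toScheme := ρ ∣_ U
  let β : U₁.toScheme ⟶ Spec (CommRingCat.of E) := U₁.ι ≫ (snd Γ T₁).left
  have : IsAffine U.toScheme := hUaff
  have sq : IsPullback α β (chartSnd U) (Spec.map φ₁) :=
    (isPullback_morphismRestrict ρ U).paste_vert (SGA3a.QuotDiag.isPullback_whiskerLeft_snd Γ y).flip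
  let O : U₁.toScheme.Opens := U₁.ι ⁻¹ᵁ (θ.left ⁻¹ᵁ U)
  have hO : Dense (O : Set U₁.toScheme) :=
    (hUd.preimage θ.left.isOpenMap).preimage U₁.ι.isOpenEmbedding.isOpenMap
  let θ' : O.toScheme ⟶ U.toScheme := IsOpenImmersion.lift U.ι (O.ι ≫ U₁.ι ≫ θ.left) (by
    rw [U.range_ι]; rintro _ ⟨z, rfl⟩; exact z.2)
  have hθ' : θ' ≫ U.ι = O.ι ≫ U₁.ι ≫ θ.left := IsOpenImmersion.lift_fac _ _ _
  have hS₁ : ∑ i, cst β (φ₁ (c i)) * α.appTop (tr a V s U hUV i) = 0 := by
    rw [← map_zero α.appTop.hom, ← hc, map_sum]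
    refine Finset.sum_congr rfl fun j _ => ?_
    rw [map_mul, cst_comp, sq.w, cst_comp_specMap]
  have hS₀ : ∑ i, cst β (φ₀ (c i)) * α.appTop (tr a V s U hUV i) = 0 := by
    refine eq_zero_of_dense _ O hO ?_
    rw [← map_zero θ'.appTop.hom, ← hc, map_sum, map_sum]
    refine Finset.sum_congr rfl fun j _ => ?_
    rw [map_mul, map_mul]
    congr 1
    · rw [cst_comp, cst_comp, ← cst_comp_specMap]
      refine congrArg (fun q => cst q (c j)) ?_
      simp only [β, chartSnd, Category.assoc]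
      rw [← Category.assoc θ', hθ']
      simp only [Category.assoc]
      rw [hθs]
    · have e1 : (O.ι ≫ α) ≫ U.ι ≫ (genAct a).left = θ' ≫ U.ι ≫ (genAct a).left := by
        simp only [α, Category.assoc]
        rw [morphismRestrict_ι_assoc, ← Category.assoc θ', hθ']
        simp only [Category.assoc, ρ]
        rw [← Over.comp_left, ← Over.comp_left, hθm]
      have hm : ∀ z, ((O.ι ≫ α) ≫ U.ι ≫ (genAct a).left) z ∈ V := fun z => hUV _ ((O.ι ≫ α) z).2
      have hm' : ∀ z, (θ' ≫ U.ι ≫ (genAct a).left) z ∈ V := fun z => hUV _ (θ' z).2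
      rw [← CommRingCat.comp_apply, ← Scheme.Hom.comp_appTop, tr, pullSec_comp V (O.ι ≫ α) _ _ hm,
        pullSec_congr V e1 hm hm', pullSec_comp V θ' _ _ hm']
  let J := {j // j ∈ t.erase i₀}
  let r' : J → Γ(U.toScheme, ⊤) := fun j => tr a V s U hUV j.1
  have hsum : ∀ (R : Type u) [CommRing R] (g : I → R), (∀ j, j ∉ t.erase i₀ → g j = 0) →
      ∑ j : J, g j.1 = ∑ j, g j := by
    intro R _ g hg
    rw [Finset.sum_coe_sort (t.erase i₀) g]
    exact Finset.sum_subset (Finset.subset_univ _) fun j _ hj => hg j hj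
  have hind' : ∀ e : J → X.left.functionField, ∑ j, cst (chartSnd U) (e j) * r' j = 0 → e = 0 := by
    intro e he
    let e' : I → X.left.functionField := fun j => if hj : j ∈ t.erase i₀ then e ⟨j, hj⟩ else 0
    have := hind e' (fun j hj => dif_neg fun h' => hj (Finset.mem_of_mem_erase h'))
      (dif_neg (Finset.notMem_erase i₀ t)) (by
        rw [← hsum _ _ (fun j hj => by simp only [e', dif_neg hj, map_zero, zero_mul]), ← he]
        exact Finset.sum_congr rfl fun j _ => by simp only [e', dif_pos j.2, Subtype.coe_eta, r'])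
    funext j
    have h := congrFun this j.1
    simp only [e', dif_pos j.2, Pi.zero_apply] at h
    exact h
  have hd := base_change_indep (chartSnd U) φ₁.hom α β sq r' hind'
    (fun j => φ₀ (c j.1) - φ₁ (c j.1)) (by
      rw [hsum _ (fun j => cst β (φ₀ (c j) - φ₁ (c j)) * α.appTop (tr a V s U hUV j)) fun j hj => ?_]
      · simp only [map_sub, sub_mul, Finset.sum_sub_distrib, hS₀, hS₁, sub_zero]
      · by_cases hj0 : j = i₀
        · subst hj0
          rw [h1, map_one, map_one, sub_self, map_zero, zero_mul]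
        · rw [hsupp j (fun h' => hj (Finset.mem_erase.2 ⟨hj0, h'⟩)), map_zero, map_zero, sub_self,
            map_zero, zero_mul])
  by_cases hi : i ∈ t.erase i₀
  · exact sub_eq_zero.1 (congrFun hd ⟨i, hi⟩)
  · by_cases hi0 : i = i₀
    · subst hi0; rw [h1, map_one, map_one]
    · rw [hsupp i (fun h' => hi (Finset.mem_erase.2 ⟨hi0, h'⟩)), map_zero, map_zero]

theorem indep_translates (hUaff : IsAffineOpen U) (hUd : Dense (U : Set ↥(Γ ⊗ genObj X).left))
    (hind : ∀ c : I → X.left.functionField, (∀ i, IsInvRat a (c i)) →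
      ∑ i, c i * X.left.germToFunctionField V (s i) = 0 → c = 0)
    (c : I → X.left.functionField) (hc : ∑ i, cst (chartSnd U) (c i) * tr a V s U hUV i = 0) : c = 0 := by
  classical
  suffices key : ∀ (t : Finset I) (c : I → X.left.functionField), (∀ i, i ∉ t → c i = 0) →
      ∑ i, cst (chartSnd U) (c i) * tr a V s U hUV i = 0 → c = 0 from
    key Finset.univ c (fun i hi => absurd (Finset.mem_univ i) hi) hc
  intro t
  induction t using Finset.strongInduction with
  | _ t IH =>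
    intro c hsupp hc
    by_contra hne
    obtain ⟨i₀, hi₀⟩ := Function.ne_iff.1 hne
    change c i₀ ≠ 0 at hi₀
    have hit : i₀ ∈ t := by
      by_contra h
      exact hi₀ (hsupp i₀ h)
    let d : I → X.left.functionField := fun i => (c i₀)⁻¹ * c i
    have hd : ∑ i, cst (chartSnd U) (d i) * tr a V s U hUV i = 0 := by
      refine Eq.trans (b := cst (chartSnd U) (c i₀)⁻¹ * ∑ i, cst (chartSnd U) (c i) * tr a V s U hUV i) ?_
        (by rw [hc, mul_zero])
      rw [Finset.mul_sum]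
      exact Finset.sum_congr rfl fun i _ => (congrArg (· * _) (map_mul _ _ _)).trans (mul_assoc _ _ _)
    have hd1 : d i₀ = 1 := inv_mul_cancel₀ hi₀
    have hdsupp : ∀ i, i ∉ t → d i = 0 := fun i hi => by simp [d, hsupp i hi]
    have hinv := isInvRat_of_relation a V s U hUV hUaff hUd t i₀ (fun e he he0 hes =>
      IH (t.erase i₀) (Finset.erase_ssubset hit) e (fun i hi => by
        by_cases h : i = i₀
        · exact h ▸ he0
        · exact he i fun h' => hi (Finset.mem_erase.2 ⟨h, h'⟩)) hes) d hdsupp hd1 hd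
    have := nonempty_gen (Γ := Γ) (X := X)
    obtain ⟨w, hw, hwg⟩ := exists_good a U hUd.nonempty
    let E : Type u := (Γ ⊗ genObj X).left.residueField w
    let p : Spec (CommRingCat.of E) ⟶ (Γ ⊗ genObj X).left := (Γ ⊗ genObj X).left.fromSpecResidueField w
    have hgen : ∀ e, p e = w := fun e => (Γ ⊗ genObj X).left.fromSpecResidueField_apply w e
    obtain ⟨φ₀, φ₁, h₀, h₁⟩ := exists_homs a p (fun e => (congrArg _ (hgen e)).trans hwg)
    have hrel := pull_relation a V s U hUV d hd p (fun e => (hgen e).symm ▸ hw) φ₀ φ₁ h₀ h₁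
    have h0 : ∑ i, d i * X.left.germToFunctionField V (s i) = 0 := by
      apply φ₁.hom.injective
      rw [map_zero, map_sum, ← hrel]
      exact Finset.sum_congr rfl fun i _ => by rw [map_mul, hinv i _ _ φ₀ φ₁ h₀ h₁]
    exact one_ne_zero (hd1.symm.trans (congrFun (hind d hinv h0) i₀))

end Groth.Agent.GeomQuot4
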