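import Groth.Agent.GeomQuot4.Indep
import Groth.Agent.H98EqInt.Quot
import Mathlib.RingTheory.RingHom.FaithfullyFlat

/-! Invariant rational functions come from the geometric quotient. -/

universe u

open CategoryTheory CategoryTheory.Limits MonoidalCategory CartesianMonoidalCategory MonObj AlgebraicGeometry Opposite

set_option autoImplicit false
set_option backward.isDefEq.respectTransparency false
set_option backward.isDefEq.respectTransparency.types false

namespace Groth.Agent.GeomQuot4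

theorem pullSec_germ {X T : Scheme.{u}} (V : X.Opens) (q : T ⟶ X) (hq : ∀ t, q t ∈ V) (s : Γ(X, V)) (t : T) :
    T.presheaf.germ ⊤ t trivial (pullSec V q hq s) = q.stalkMap t (X.presheaf.germ V (q t) (hq t) s) := by
  rw [Scheme.Hom.germ_stalkMap_apply]
  change T.presheaf.germ ⊤ t trivial ((q.appLE V ⊤ (le_preimage hq)) s) = _
  rw [Scheme.Hom.appLE, CommRingCat.comp_apply, TopCat.Presheaf.germ_res_apply]

theorem pullSec_ι {X Z : Scheme.{u}} (V : X.Opens) (O : Z.Opens) (g : Z ⟶ X) (e : O ≤ g ⁻¹ᵁ V) (s : Γ(X, V)) :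
    pullSec V (O.ι ≫ g) (fun t => e t.2) s = O.topIso.inv (g.appLE V O e s) := by
  change (O.ι ≫ g).appLE V ⊤ _ s = (g.appLE V O e ≫ O.topIso.inv) s
  rw [← Scheme.Hom.appLE_comp_appLE O.ι g V O ⊤ e (by simp)]
  simp [Scheme.Opens.ι_appLE]

variable {K : Type u} [Field K] {Γ X Y : Over (Spec (CommRingCat.of K))} [GrpObj Γ] [IsIntegral X.left]
  [Smooth Γ.hom] (a : AlgGrp.Action Γ X)

theorem agree {c : X.left.functionField} (hc : IsInvRat a c) (N V : X.left.Opens) [Nonempty N] [Nonempty V]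
    (s : Γ(X.left, V)) (u v : Γ(X.left, N)) (hs : X.left.germToFunctionField V s = c)
    (huv : c * X.left.germToFunctionField N v = X.left.germToFunctionField N u)
    {W : Scheme.{u}} (j : W ⟶ (Γ ⊗ X).left) [IsOpenImmersion j]
    (h₀ : ∀ w, (j ≫ (snd Γ X).left) w ∈ N) (h₁ : ∀ w, (j ≫ a.act.left) w ∈ V) :
    pullSec N (j ≫ (snd Γ X).left) h₀ v * pullSec V (j ≫ a.act.left) h₁ s =
      pullSec N (j ≫ (snd Γ X).left) h₀ u := by
  have : IsReduced W := isReduced_of_isOpenImmersion j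
  refine sub_eq_zero.1 (eq_zero_of_genPt j _ fun w hw => ?_)
  let E : Type u := W.residueField w
  let q : Spec (CommRingCat.of E) ⟶ W := W.fromSpecResidueField w
  have hq : ∀ e, q e = w := fun e => W.fromSpecResidueField_apply w e
  have hmax : ∀ y, y ⤳ j w → y = j w := by
    intro y hy
    obtain ⟨y', rfl⟩ : y ∈ j.opensRange := hy.mem_open j.opensRange.isOpen ⟨w, rfl⟩
    rw [hw y' (j.isOpenEmbedding.isInducing.specializes_iff.1 hy)]
  have g₀ : ∀ e, (q ≫ j ≫ (snd Γ X).left) e = genericPoint X.left := fun e => by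
    rw [Scheme.Hom.comp_apply, Scheme.Hom.comp_apply, hq]; exact map_maximal _ hmax
  have g₁ : ∀ e, (q ≫ j ≫ a.act.left) e = genericPoint X.left := fun e => by
    rw [Scheme.Hom.comp_apply, Scheme.Hom.comp_apply, hq]; exact map_maximal _ hmax
  obtain ⟨φ₀, e₀⟩ := exists_hom_of_generic (q ≫ j ≫ (snd Γ X).left) g₀
  obtain ⟨φ₁, e₁⟩ := exists_hom_of_generic (q ≫ j ≫ a.act.left) g₁
  have sq := SGA3a.QuotDiag.isPullback_whiskerLeft_snd Γ (genPt X)
  let p : Spec (CommRingCat.of E) ⟶ (Γ ⊗ genObj X).left :=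
    sq.lift (Spec.map φ₀) (q ≫ j) (e₀.trans (Category.assoc _ _ _).symm)
  have hφ : φ₀ c = φ₁ c := by
    refine hc E p φ₀ φ₁ (sq.lift_fst _ _ _) ?_
    change p ≫ (Γ ◁ genPt X).left ≫ a.act.left = _
    rw [← Category.assoc, sq.lift_snd, Category.assoc]
    exact e₁.symm
  have k₀ : ∀ x : Γ(X.left, N), q.appTop (pullSec N (j ≫ (snd Γ X).left) h₀ x) =
      cst (𝟙 _) (φ₀ (X.left.germToFunctionField N x)) := fun x => by
    have hm : ∀ t, (q ≫ j ≫ (snd Γ X).left) t ∈ N := fun t => h₀ (q t)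
    have hm' : ∀ t, (Spec.map φ₀ ≫ X.left.fromSpecStalk (genericPoint X.left)) t ∈ N := e₀ ▸ hm
    rw [pullSec_comp N q _ h₀ hm, pullSec_congr N e₀.symm hm hm', pullSec_generic N φ₀ hm']
  have k₁ : q.appTop (pullSec V (j ≫ a.act.left) h₁ s) = cst (𝟙 _) (φ₁ c) := by
    have hm : ∀ t, (q ≫ j ≫ a.act.left) t ∈ V := fun t => h₁ (q t)
    have hm' : ∀ t, (Spec.map φ₁ ≫ X.left.fromSpecStalk (genericPoint X.left)) t ∈ V := e₁ ▸ hm
    rw [pullSec_comp V q _ h₁ hm, pullSec_congr V e₁.symm hm hm', pullSec_generic V φ₁ hm', hs]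
  change q.appTop _ = 0
  rw [map_sub, map_mul, k₀, k₀, k₁, ← hφ, ← map_mul, ← map_mul, ← huv, mul_comm, sub_self]

theorem regular_of_orbit {c : X.left.functionField} (hc : IsInvRat a c) (V : X.left.Opens) [Nonempty V]
    (s : Γ(X.left, V)) (hs : X.left.germToFunctionField V s = c) (z : ↥(Γ ⊗ X).left)
    (hz : a.act.left z ∈ V) :
    ∃ (N : X.left.Opens) (h : (snd Γ X).left z ∈ N) (t : Γ(X.left, N)),
      X.left.presheaf.germ N (genericPoint X.left)
        (((genericPoint_spec X.left).specializes (Set.mem_univ _)).mem_open N.isOpen h) t = c := by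
  obtain ⟨N, hN, hxN, -⟩ := exists_isAffineOpen_mem_and_subset (X := X.left) (x := (snd Γ X).left z)
    (U := ⊤) trivial
  have : Nonempty N := ⟨⟨_, hxN⟩⟩
  have := functionField_isFractionRing_of_isAffineOpen X.left N hN
  obtain ⟨u, v, hv, huv⟩ := IsFractionRing.div_surjective (A := Γ(X.left, N)) c
  have hv0 : X.left.germToFunctionField N v ≠ 0 := fun h => nonZeroDivisors.ne_zero hv
    (IsFractionRing.injective Γ(X.left, N) X.left.functionField (h.trans (map_zero _).symm))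
  have huv' : c * X.left.germToFunctionField N v = X.left.germToFunctionField N u :=
    (eq_div_iff hv0).1 huv.symm
  let O : (Γ ⊗ X).left.Opens := (snd Γ X).left ⁻¹ᵁ N ⊓ a.act.left ⁻¹ᵁ V
  let w : O.toScheme := ⟨z, hxN, hz⟩
  let q := O.ι ≫ (snd Γ X).left
  let q' := O.ι ≫ a.act.left
  have h₀ : ∀ t, q t ∈ N := fun t => t.2.1
  have h₁ : ∀ t, q' t ∈ V := fun t => t.2.2
  have hag := congrArg (O.toScheme.presheaf.germ ⊤ w trivial) (agree a hc N V s u v hs huv' O.ι h₀ h₁)
  erw [map_mul, pullSec_germ, pullSec_germ, pullSec_germ] at hag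
  algebraize [(q.stalkMap w).hom]
  have : Module.Flat (X.left.presheaf.stalk (q w)) (O.toScheme.presheaf.stalk w) := Flat.stalkMap q w
  have : IsLocalHom (algebraMap (X.left.presheaf.stalk (q w)) (O.toScheme.presheaf.stalk w)) :=
    inferInstanceAs (IsLocalHom (q.stalkMap w).hom)
  have := Module.FaithfullyFlat.of_flat_of_isLocalHom
    (A := X.left.presheaf.stalk (q w)) (B := O.toScheme.presheaf.stalk w)
  have hmem : X.left.presheaf.germ N (q w) (h₀ w) u ∈
      Ideal.span {X.left.presheaf.germ N (q w) (h₀ w) v} := by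
    rw [← Ideal.comap_map_eq_self_of_faithfullyFlat (B := O.toScheme.presheaf.stalk w) (Ideal.span _),
      Ideal.mem_comap, Ideal.map_span, Set.image_singleton, Ideal.mem_span_singleton]
    exact Dvd.intro _ hag
  obtain ⟨r, hr⟩ := Ideal.mem_span_singleton.1 hmem
  obtain ⟨N', hN', t, rfl⟩ := X.left.presheaf.exists_germ_eq r
  refine ⟨N', hN', t, ?_⟩
  have hsp : genericPoint X.left ⤳ q w := (genericPoint_spec X.left).specializes (Set.mem_univ _)
  have h := congrArg (X.left.presheaf.stalkSpecializes hsp) hr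
  rw [map_mul, TopCat.Presheaf.germ_stalkSpecializes_apply, TopCat.Presheaf.germ_stalkSpecializes_apply,
    TopCat.Presheaf.germ_stalkSpecializes_apply] at h
  refine mul_left_cancel₀ hv0 ?_
  rw [mul_comm _ c, huv']
  exact h.symm

variable [IrreducibleSpace Y.left] [LocallyOfFiniteType Γ.hom] {π : X ⟶ Y}

theorem exists_of_invRat (hπ : GIT.IsGeomQuot a π) {c : X.left.functionField} (hc : IsInvRat a c) :
    ∃ (U : Y.left.Opens) (h : genericPoint X.left ∈ π.left ⁻¹ᵁ U) (t : Γ(Y.left, U)),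
      X.left.presheaf.germ (π.left ⁻¹ᵁ U) (genericPoint X.left) h (π.left.app U t) = c := by
  classical
  obtain ⟨V, hξV, s, hs⟩ := X.left.presheaf.exists_germ_eq c
  have : Nonempty V := ⟨⟨_, hξV⟩⟩
  have := H98EqInt.universallyOpen_of_isGeomQuot a π hπ
  let U : Y.left.Opens := ⟨π.left '' V, π.left.isOpenMap _ V.isOpen⟩
  let W := π.left ⁻¹ᵁ U
  have hξW : genericPoint X.left ∈ W := ⟨_, hξV, rfl⟩
  have reg : ∀ x : W, ∃ (N : X.left.Opens) (_ : (x : X.left) ∈ N) (t : Γ(X.left, N)) (h : genericPoint X.left ∈ N),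
      X.left.presheaf.germ N (genericPoint X.left) h t = c := by
    rintro ⟨x, v, hv, hvx⟩
    obtain ⟨y, hy₁, hy₂⟩ := Scheme.Pullback.exists_preimage_pullback (f := π.left) (g := π.left) v x hvx
    obtain ⟨z, rfl⟩ := hπ.orbit y
    have e₁ : (GIT.PsiY a π hπ.inv ≫ pullback.fst π.left π.left) z = a.act.left z := by
      rw [GIT.PsiY, pullback.lift_fst]
    have e₂ : (GIT.PsiY a π hπ.inv ≫ pullback.snd π.left π.left) z = (snd Γ X).left z := by
      rw [GIT.PsiY, pullback.lift_snd]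
    rw [Scheme.Hom.comp_apply] at e₁ e₂
    have hx : (snd Γ X).left z = x := e₂.symm.trans hy₂
    obtain ⟨N, hN, t, ht⟩ := regular_of_orbit a hc V s hs z ((e₁.symm.trans hy₁) ▸ hv)
    exact ⟨N, hx ▸ hN, t, _, ht⟩
  choose N hxN t hξN ht using reg
  let M : W → X.left.Opens := fun x => N x ⊓ W
  let sf : ∀ x, Γ(X.left, M x) := fun x => X.left.presheaf.map (homOfLE inf_le_left).op (t x)
  have hsf : ∀ x, X.left.presheaf.germ (M x) (genericPoint X.left) ⟨hξN x, hξW⟩ (sf x) = c := fun x => by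
    rw [TopCat.Presheaf.germ_res_apply, ht]
  have hcomp : TopCat.Presheaf.IsCompatible X.left.presheaf M sf := fun x y => by
    refine germ_injective_of_isIntegral X.left (genericPoint X.left)
      (show genericPoint X.left ∈ M x ⊓ M y from ⟨⟨hξN x, hξW⟩, ⟨hξN y, hξW⟩⟩) ?_
    simp only [TopologicalSpace.Opens.infLELeft, TopologicalSpace.Opens.infLERight,
      TopCat.Presheaf.germ_res_apply, hsf]
  obtain ⟨f, hf, -⟩ := X.left.sheaf.existsUnique_gluing' M W (fun x => homOfLE inf_le_right)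
    (fun x hx => TopologicalSpace.Opens.mem_iSup.2 ⟨⟨x, hx⟩, hxN ⟨x, hx⟩, hx⟩) sf hcomp
  have hfc : X.left.presheaf.germ W (genericPoint X.left) hξW f = c := by
    rw [← hsf ⟨_, hξW⟩, ← TopCat.Presheaf.germ_res_apply X.left.presheaf
      (homOfLE (inf_le_right : M ⟨_, hξW⟩ ≤ W)) (genericPoint X.left) ⟨hξN _, hξW⟩ f]
    exact congrArg _ (hf ⟨_, hξW⟩)
  have : Nonempty W := ⟨⟨_, hξW⟩⟩
  have hinv : GIT.IsInvSection a π U f := by
    rw [GIT.IsInvSection]
    let O : (Γ ⊗ X).left.Opens := a.act.left ⁻¹ᵁ W ⊓ (snd Γ X).left ⁻¹ᵁ W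
    apply (ConcreteCategory.bijective_of_isIso O.topIso.inv).1
    rw [← pullSec_ι W O a.act.left inf_le_left, ← pullSec_ι W O (snd Γ X).left inf_le_right]
    have h := agree a hc W W f f 1 hfc (by rw [map_one, _root_.mul_one]; exact hfc.symm) O.ι
      (fun w => w.2.2) (fun w => w.2.1)
    rwa [map_one, _root_.one_mul] at h
  obtain ⟨t', ht'⟩ := (Set.ext_iff.1 (hπ.sections U).2 f).2 hinv
  exact ⟨U, hξW, t', by rw [ht']; exact hfc⟩

end Groth.Agent.GeomQuot4
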