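import Mathlib.AlgebraicGeometry.Morphisms.Affine
import Mathlib.Algebra.Category.Ring.Constructions
import Mathlib.RingTheory.Flat.Basic
import Mathlib.FieldTheory.Perfect
import Mathlib.Algebra.CharP.Algebra
import Mathlib.Algebra.CharP.Lemmas
import Mathlib.AlgebraicGeometry.Properties
import Mathlib.FieldTheory.IsAlgClosed.Basic

/-! Linear independence of functions is preserved by extension of the base field. -/

universe u

open CategoryTheory CategoryTheory.Limits AlgebraicGeometry Opposite
open scoped TensorProduct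

set_option autoImplicit false
set_option linter.style.haveILetI false

namespace Groth.Agent.GeomQuot4

/-- A constant viewed as a global function. -/
noncomputable def cst {R : CommRingCat.{u}} {Z : Scheme.{u}} (q : Z ⟶ Spec R) : R →+* Γ(Z, ⊤) :=
  ((Scheme.ΓSpecIso R).inv ≫ q.appTop).hom

theorem cst_comp {R : CommRingCat.{u}} {Z Z' : Scheme.{u}} (a : Z' ⟶ Z) (q : Z ⟶ Spec R) (c : R) :
    a.appTop (cst q c) = cst (a ≫ q) c := by
  simp only [cst, Scheme.Hom.comp_appTop]
  rfl

theorem cst_comp_specMap {R R' : CommRingCat.{u}} {Z : Scheme.{u}} (q : Z ⟶ Spec R') (φ : R ⟶ R') (c : R) :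
    cst (q ≫ Spec.map φ) c = cst q (φ c) := by
  have h := ConcreteCategory.congr_hom (Scheme.ΓSpecIso_inv_naturality φ) c
  change (q ≫ Spec.map φ).appTop ((Scheme.ΓSpecIso R).inv c) = q.appTop ((Scheme.ΓSpecIso R').inv (φ c))
  rw [Scheme.Hom.comp_appTop, CommRingCat.comp_apply]
  exact congrArg q.appTop h.symm

theorem base_change_indep {F E : Type u} [Field F] [CommRing E] {W P : Scheme.{u}} [IsAffine W]
    (qW : W ⟶ Spec (CommRingCat.of F)) (φ : F →+* E) (a : P ⟶ W) (b : P ⟶ Spec (CommRingCat.of E))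
    (h : IsPullback a b qW (Spec.map (CommRingCat.ofHom φ))) {ι : Type*} [Fintype ι] (r : ι → Γ(W, ⊤))
    (hind : ∀ c : ι → F, ∑ i, cst qW (c i) * r i = 0 → c = 0) (d : ι → E)
    (hd : ∑ i, cst b (d i) * a.appTop (r i) = 0) : d = 0 := by
  have hp := isPushout_appTop_of_isPullback h
  letI := φ.toAlgebra
  letI := (cst qW).toAlgebra
  letI := (cst b).toAlgebra
  letI := a.appTop.hom.toAlgebra
  letI : Algebra F Γ(P, ⊤) := (a.appTop.hom.comp (cst qW)).toAlgebra
  haveI : IsScalarTower F Γ(W, ⊤) Γ(P, ⊤) := IsScalarTower.of_algebraMap_eq fun _ => rfl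
  haveI : IsScalarTower F E Γ(P, ⊤) := IsScalarTower.of_algebraMap_eq fun c => by
    change a.appTop (cst qW c) = cst b (φ c)
    rw [cst_comp, h.w]
    exact cst_comp_specMap b (CommRingCat.ofHom φ) c
  have hp' : IsPushout (CommRingCat.ofHom (algebraMap F Γ(W, ⊤))) (CommRingCat.ofHom (algebraMap F E))
      (CommRingCat.ofHom (algebraMap Γ(W, ⊤) Γ(P, ⊤))) (CommRingCat.ofHom (algebraMap E Γ(P, ⊤))) := by
    refine hp.of_iso (Scheme.ΓSpecIso _) (Iso.refl _) (Scheme.ΓSpecIso _) (Iso.refl _) ?_ ?_ ?_ ?_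
    · ext c
      change qW.appTop c = cst qW ((Scheme.ΓSpecIso (CommRingCat.of F)).hom c)
      simp [cst]
    · exact Scheme.ΓSpecIso_naturality (CommRingCat.ofHom φ)
    · ext c
      rfl
    · ext c
      change b.appTop c = cst b ((Scheme.ΓSpecIso (CommRingCat.of E)).hom c)
      simp [cst]
  have hP : Algebra.IsPushout F E Γ(W, ⊤) Γ(P, ⊤) := (CommRingCat.isPushout_iff_isPushout.mp hp').symm
  let e := hP.out.equiv
  have hli : LinearIndependent F r := by
    rw [Fintype.linearIndependent_iff]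
    intro c hc i
    refine congrFun (hind c ?_) i
    simpa [Algebra.smul_def, RingHom.algebraMap_toAlgebra] using hc
  have hli' := Module.Flat.linearIndependent_one_tmul (S := E) hli
  have h0 : ∑ i, d i • ((1 : E) ⊗ₜ[F] r i) = 0 := by
    apply e.injective
    rw [map_sum, map_zero, ← hd]
    refine Finset.sum_congr rfl fun i _ => ?_
    rw [map_smul, IsBaseChange.equiv_tmul, one_smul, Algebra.smul_def]
    rfl
  funext i
  exact Fintype.linearIndependent_iff.1 hli' d h0 i

/-- In a reduced extension, powers of independent functions stay independent. -/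
theorem pow_indep {F : Type u} [Field F] (p : ℕ) [Fact p.Prime] [CharP F p] {W P : Scheme.{u}} [IsAffine W]
    [Nonempty P] [AlgebraicGeometry.IsReduced P]
    (qW : W ⟶ Spec (CommRingCat.of F)) {E : Type u} [Field E] [IsAlgClosed E] (φ : F →+* E)
    (a : P ⟶ W) (b : P ⟶ Spec (CommRingCat.of E)) (h : IsPullback a b qW (Spec.map (CommRingCat.ofHom φ)))
    {ι : Type*} [Fintype ι] (r : ι → Γ(W, ⊤))
    (hind : ∀ c : ι → F, ∑ i, cst qW (c i) * r i = 0 → c = 0) (c : ι → F)
    (hc : ∑ i, cst qW (c i) * r i ^ p = 0) : c = 0 := by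
  choose d hd using fun i => IsAlgClosed.exists_pow_nat_eq (φ (c i)) (Fact.out : p.Prime).pos
  have : CharP E p := charP_of_injective_ringHom φ.injective p
  have : Nontrivial Γ(P, ⊤) := by
    obtain ⟨x⟩ := ‹Nonempty P›
    exact (P.presheaf.germ ⊤ x trivial).hom.domain_nontrivial
  have : CharP Γ(P, ⊤) p := charP_of_injective_ringHom (f := cst b) (cst b).injective p
  have : ExpChar Γ(P, ⊤) p := .prime Fact.out
  have h0 : ∑ i, cst b (d i) * a.appTop (r i) = 0 := by
    apply _root_.IsReduced.eq_zero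
    refine ⟨p, ?_⟩
    rw [sum_pow_char]
    have := congrArg a.appTop hc
    rw [map_zero, map_sum] at this
    rw [← this]
    refine Finset.sum_congr rfl fun i _ => ?_
    rw [mul_pow, ← map_pow, hd, map_mul, map_pow, cst_comp, h.w, cst_comp_specMap]
    rfl
  funext i
  have h1 := congrFun (base_change_indep qW φ a b h r hind d h0) i
  have h2 := hd i
  rw [h1, Pi.zero_apply, zero_pow (Fact.out : p.Prime).ne_zero] at h2
  exact (map_eq_zero φ).1 h2.symm

end Groth.Agent.GeomQuot4
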