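import Groth.Agent.GeomQuot4.Invariant
import Groth.Agent.Cyc90.PushDivCollapse
import Groth.Agent.S1544
import Groth.Agent.Sep12.Basic
import Groth.Agent.FlatMor67.DenseAffine
import Groth.Agent.FlatMor67.SmoothGeneric

/-! Separability of the function field over the invariant field. -/

universe u

open CategoryTheory CategoryTheory.Limits MonoidalCategory CartesianMonoidalCategory MonObj AlgebraicGeometry Opposite

set_option autoImplicit false
set_option backward.isDefEq.respectTransparency false
set_option backward.isDefEq.respectTransparency.types false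
attribute [local instance] Curv2.resAlgebra Curv2.stalkAlgebra

namespace Groth.Agent.GeomQuot4

theorem pullSec_app {X Y T : Scheme.{u}} (g : X ⟶ Y) (U : Y.Opens) (p : T ⟶ X) (hp : ∀ t, p t ∈ g ⁻¹ᵁ U)
    (x : Γ(Y, U)) : pullSec (g ⁻¹ᵁ U) p hp (g.app U x) = pullSec U (p ≫ g) hp x := by
  change (g.app U ≫ p.appLE (g ⁻¹ᵁ U) ⊤ _) x = ((p ≫ g).appLE U ⊤ _) x
  rw [Scheme.Hom.app_eq_appLE, Scheme.Hom.appLE_comp_appLE]

theorem pullSec_res {X T : Scheme.{u}} {V V' : X.Opens} (h : V' ≤ V) (p : T ⟶ X) (hp : ∀ t, p t ∈ V')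
    (x : Γ(X, V)) :
    pullSec V' p hp (X.presheaf.map (homOfLE h).op x) = pullSec V p (fun t => h (hp t)) x := by
  change (X.presheaf.map _ ≫ p.appLE V' ⊤ _) x = (p.appLE V ⊤ _) x
  rw [Scheme.Hom.map_appLE]

theorem exists_dense_affine_le {Z : Scheme.{u}} [TopologicalSpace.NoetherianSpace Z] (O : Z.Opens)
    (hO : Dense (O : Set Z)) : ∃ U : Z.Opens, IsAffineOpen U ∧ U ≤ O ∧ Dense (U : Set Z) := by
  have : TopologicalSpace.NoetherianSpace O.toScheme := O.ι.isOpenEmbedding.isInducing.noetherianSpace
  obtain ⟨U, hU, hUd⟩ := FlatMor67.exists_dense_affineOpen O.toScheme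
  refine ⟨O.ι ''ᵁ U, hU.image_of_isOpenImmersion O.ι, ?_, ?_⟩
  · rintro _ ⟨x, -, rfl⟩
    exact x.2
  · intro z
    have h1 : (O : Set Z) ⊆ closure ((O.ι ''ᵁ U : Z.Opens) : Set Z) := fun x hx =>
      image_closure_subset_closure_image O.ι.continuous ⟨⟨x, hx⟩, hUd ⟨x, hx⟩, rfl⟩
    exact closure_minimal h1 isClosed_closure (hO z)

variable {K : Type u} [Field K] {Γ X Y : Over (Spec (CommRingCat.of K))} [GrpObj Γ] [IsIntegral X.left]
  [Smooth Γ.hom] [LocallyOfFiniteType Γ.hom] [QuasiCompact Γ.hom] (a : AlgGrp.Action Γ X)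

theorem noetherianSpace_gen : TopologicalSpace.NoetherianSpace ↥(Γ ⊗ genObj X).left := by
  have : QuasiCompact (genSnd (Γ := Γ) (X := X)) :=
    MorphismProperty.pullback_snd (P := @QuasiCompact) Γ.hom (genObj X).hom ‹_›
  have : LocallyOfFiniteType (genSnd (Γ := Γ) (X := X)) := inferInstance
  have : IsNoetherian (Spec X.left.functionField) := inferInstance
  have := LocallyOfFiniteType.isLocallyNoetherian (genSnd (Γ := Γ) (X := X))
  have := QuasiCompact.compactSpace_of_compactSpace (genSnd (Γ := Γ) (X := X))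
  have : IsNoetherian (Γ ⊗ genObj X).left := {}
  infer_instance

/-- Powers of a family independent over the invariants are independent over them. -/
theorem pow_translates [LocallyOfFiniteType X.hom] (p : ℕ) [Fact p.Prime] [CharP X.left.functionField p]
    {I : Type u} [Fintype I] (V : X.left.Opens) [Nonempty V] (s f : I → Γ(X.left, V))
    (hind : ∀ c : I → X.left.functionField, (∀ i, IsInvRat a (c i)) →
      ∑ i, c i * X.left.germToFunctionField V (s i) = 0 → c = 0)
    (hf : ∀ (T : Scheme.{u}) (g : T ⟶ (Γ ⊗ genObj X).left) (h₁ : ∀ t, (g ≫ (genAct a).left) t ∈ V) (i : I),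
      pullSec V (g ≫ (genAct a).left) h₁ (f i) =
        cst (g ≫ genSnd (Γ := Γ)) (X.left.germToFunctionField V (f i)))
    (hrel : ∑ i, X.left.germToFunctionField V (f i) * X.left.germToFunctionField V (s i) ^ p = 0) (i : I) :
    X.left.germToFunctionField V (f i) = 0 := by
  have := noetherianSpace_gen (Γ := Γ) (X := X)
  have := nonempty_gen (Γ := Γ) (X := X)
  obtain ⟨U, hU, hUV, hUd⟩ := exists_dense_affine_le ((genAct a).left ⁻¹ᵁ V) (dense_genAct a V)
  have hUV' : ∀ w ∈ U, (genAct a).left w ∈ V := fun w hw => hUV hw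
  have : Nonempty U.toScheme := hUd.nonempty.to_subtype
  have : IsAffine U.toScheme := hU
  let E : Type u := AlgebraicClosure X.left.functionField
  let φ : X.left.functionField →+* E := algebraMap _ _
  have : Surjective (Spec.map (CommRingCat.ofHom φ)) := by
    have : Subsingleton ↥(Spec X.left.functionField) :=
      inferInstanceAs (Subsingleton (PrimeSpectrum X.left.functionField))
    exact ⟨Function.surjective_to_subsingleton _⟩
  let q : U.toScheme ⟶ Spec (CommRingCat.of X.left.functionField) := chartSnd U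
  have : Smooth q := inferInstanceAs (Smooth (U.ι ≫ genSnd (Γ := Γ)))
  have : Smooth (pullback.snd q (Spec.map (CommRingCat.ofHom φ))) := inferInstance
  have : IsReduced (pullback q (Spec.map (CommRingCat.ofHom φ))) :=
    SpFP87.isReduced_of_smooth (pullback.snd q (Spec.map (CommRingCat.ofHom φ)))
  have : Nonempty ↥(pullback q (Spec.map (CommRingCat.ofHom φ))) := by
    obtain ⟨u⟩ := ‹Nonempty U.toScheme›
    exact ⟨((pullback.fst q (Spec.map (CommRingCat.ofHom φ))).surjective u).choose⟩
  have h := pow_indep p q φ _ _ (IsPullback.of_hasPullback q (Spec.map (CommRingCat.ofHom φ)))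
    (tr a V s U hUV') (indep_translates a V s U hUV' hU hUd hind)
    (fun i => X.left.germToFunctionField V (f i)) (by
      have hm : ∀ w, (U.ι ≫ (genAct a).left) w ∈ V := fun w => hUV' _ w.2
      have h0 : ∑ i, f i * s i ^ p = 0 := by
        apply X.left.germToFunctionField_injective V
        simp only [map_zero, map_sum, map_mul, map_pow]
        exact hrel
      have := congrArg (pullSec V (U.ι ≫ (genAct a).left) hm) h0
      simp only [map_zero, map_sum, map_mul, map_pow, hf _ _ hm] at this
      exact this)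
  exact congrFun h i

variable [LocallyOfFiniteType X.hom] [IsIntegral Y.left] {π : X ⟶ Y}

/-- The generic fibre of a geometric quotient is geometrically reduced. -/
theorem geometricallyReduced_fibre (hπ : GIT.IsGeomQuot a π) :
    GeometricallyReduced (π.left.fiberToSpecResidueField (genericPoint Y.left)) := by
  classical
  have hdom : π.left (genericPoint X.left) = genericPoint Y.left := by
    have : IsDominant π.left := ⟨Function.Surjective.denseRange hπ.surj⟩
    exact FlatMor67.map_genericPoint_of_isDominant π.left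
  let y₀ := genericPoint Y.left
  let L : Type u := Y.left.residueField y₀
  let Z : Scheme.{u} := π.left.fiber y₀
  obtain ⟨hint, hζ⟩ := Cyc90.exists_generic_fiber π.left hdom
  have : IsIntegral Z := hint
  let q : Z ⟶ Spec (CommRingCat.of L) := π.left.fiberToSpecResidueField y₀
  letI : Z.Over (Spec (CommRingCat.of L)) := ⟨q⟩
  refine (S1544.result L Z).2 ?_
  let ζ := genericPoint Z
  let j : Z ⟶ X.left := π.left.fiberι y₀
  let e : X.left.functionField →+* Z.functionField :=
    (X.left.presheaf.stalkSpecializes (specializes_of_eq hζ) ≫ j.stalkMap ζ).hom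
  have hsurj : Function.Surjective e :=
    (Cyc90.stalkMap_fiberι_bijective π.left rfl ζ).2.comp
      (ConcreteCategory.bijective_of_isIso (X.left.presheaf.stalkCongr (.of_eq hζ)).inv).2
  have he : Function.Bijective e := ⟨e.injective, hsurj⟩
  have key : ∀ (U : Y.left.Opens) (hU : y₀ ∈ U) (hU' : genericPoint X.left ∈ π.left ⁻¹ᵁ U) (t : Γ(Y.left, U)),
      e (X.left.presheaf.germ (π.left ⁻¹ᵁ U) (genericPoint X.left) hU' (π.left.app U t)) =
        algebraMap L Z.functionField (Y.left.residue y₀ (Y.left.presheaf.germ U y₀ hU t)) := by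
    intro U hU hU' t
    have : Nonempty U := ⟨⟨y₀, hU⟩⟩
    change j.stalkMap ζ (X.left.presheaf.stalkSpecializes _ _) =
      Z.presheaf.germ ⊤ ζ trivial (cst q (Y.left.residue y₀ (Y.left.presheaf.germ U y₀ hU t)))
    rw [TopCat.Presheaf.germ_stalkSpecializes_apply]
    have hm : ∀ z, (j ≫ π.left) z ∈ U := fun z => by
      have e' : (j ≫ π.left) z = y₀ := by
        rw [show j ≫ π.left = q ≫ Y.left.fromSpecResidueField y₀ from pullback.condition,
          Scheme.Hom.comp_apply]
        exact Y.left.fromSpecResidueField_apply y₀ _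
      exact e' ▸ hU
    have hres : Spec.map (Y.left.residue y₀) ≫ Y.left.fromSpecStalk y₀ = Y.left.fromSpecResidueField y₀ := rfl
    have hm₁ : ∀ z, (Spec.map (Y.left.residue y₀) ≫ Y.left.fromSpecStalk y₀) z ∈ U := fun z => by
      rw [hres, Scheme.fromSpecResidueField_apply]; exact hU
    have e1 : cst q (Y.left.residue y₀ (Y.left.presheaf.germ U y₀ hU t)) = pullSec U (j ≫ π.left) hm t := by
      have hm₂ : ∀ z, (q ≫ Spec.map (Y.left.residue y₀) ≫ Y.left.fromSpecStalk y₀) z ∈ U := fun z => hm₁ _
      rw [pullSec_congr U (show j ≫ π.left = q ≫ Spec.map (Y.left.residue y₀) ≫ Y.left.fromSpecStalk y₀ from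
        pullback.condition) hm hm₂, ← pullSec_comp U q _ hm₁ hm₂]
      refine Eq.trans ?_ (congrArg q.appTop (pullSec_generic U (Y.left.residue y₀) hm₁ t)).symm
      refine Eq.trans ?_ (cst_comp q (𝟙 _) _).symm
      exact congrArg (fun q' => cst q' _) (Category.comp_id q).symm
    rw [e1, pullSec_germ, Scheme.Hom.stalkMap_comp, CommRingCat.comp_apply]
    exact (congrArg (j.stalkMap ζ) (Scheme.Hom.germ_stalkMap_apply π.left U (j ζ) _ t)).symm
  have surjL : ∀ l : L, ∃ (U : Y.left.Opens) (hU : y₀ ∈ U) (t : Γ(Y.left, U)),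
      e (X.left.presheaf.germ (π.left ⁻¹ᵁ U) (genericPoint X.left) (show π.left (genericPoint X.left) ∈ U by rw [hdom]; exact hU) (π.left.app U t)) =
        algebraMap L Z.functionField l := by
    intro l
    obtain ⟨v, rfl⟩ := Y.left.residue_surjective y₀ l
    obtain ⟨U, hU, t, rfl⟩ := Y.left.presheaf.exists_germ_eq v
    exact ⟨U, hU, t, key U hU _ t⟩
  obtain h0 | ⟨p, hp, hcp⟩ := CharP.exists' L
  · exact FBase64.isGeometricallyReduced_of_perfectField L Z.functionField
  refine Sep12.isGeometricallyReduced_of_powIndep p ?_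
  intro n s hs
  rw [Fintype.linearIndependent_iff] at hs ⊢
  intro l hl i₁
  choose g hg using fun i => hsurj (s i)
  choose N hN σ hσ using fun i => X.left.presheaf.exists_germ_eq (g i)
  choose U hU t ht using fun i => surjL (l i)
  let V : X.left.Opens := ⟨⋂ i, ((N i : Set X.left) ∩ (π.left ⁻¹ᵁ U i : Set X.left)),
    isOpen_iInter_of_finite fun i => (N i).2.inter (π.left ⁻¹ᵁ U i).2⟩
  have hξU : ∀ i, genericPoint X.left ∈ π.left ⁻¹ᵁ U i := fun i => by
    change π.left (genericPoint X.left) ∈ U i
    rw [hdom]; exact hU i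
  have hξV : genericPoint X.left ∈ V := Set.mem_iInter.2 fun i => ⟨hN i, hξU i⟩
  have : Nonempty V := ⟨⟨_, hξV⟩⟩
  have hVN : ∀ i, V ≤ N i := fun i x hx => (Set.mem_iInter.1 hx i).1
  have hVU : ∀ i, V ≤ π.left ⁻¹ᵁ U i := fun i x hx => (Set.mem_iInter.1 hx i).2
  let σ' : ULift.{u} (Fin n) → Γ(X.left, V) := fun i => X.left.presheaf.map (homOfLE (hVN i.down)).op (σ i.down)
  let f : ULift.{u} (Fin n) → Γ(X.left, V) := fun i =>
    X.left.presheaf.map (homOfLE (hVU i.down)).op (π.left.app (U i.down) (t i.down))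
  have hgσ : ∀ i, X.left.germToFunctionField V (σ' i) = g i.down := fun i => by
    rw [TopCat.Presheaf.germ_res_apply, hσ]
  have hgf : ∀ i, e (X.left.germToFunctionField V (f i)) = algebraMap L _ (l i.down) := fun i => by
    rw [TopCat.Presheaf.germ_res_apply]
    exact ht i.down
  have : CharP Z.functionField p := charP_of_injective_ringHom (algebraMap L Z.functionField).injective p
  have : CharP X.left.functionField p := (RingHom.charP_iff e e.injective p).2 ‹_›
  have hinv : (genAct a).left ≫ π.left =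
      genSnd (Γ := Γ) (X := X) ≫ X.left.fromSpecStalk (genericPoint X.left) ≫ π.left := by
    have h1 : genAct a ≫ π = snd Γ (genObj X) ≫ genPt X ≫ π := by
      rw [genAct, Category.assoc, hπ.inv, whiskerLeft_snd_assoc]
    exact congrArg Over.Hom.left h1
  have h := pow_translates a p V σ' f ?_ ?_ ?_ ⟨i₁⟩
  · have h' := hgf ⟨i₁⟩
    rw [h, map_zero] at h'
    exact (map_eq_zero _).1 h'.symm
  · intro c hc hc0
    choose Uc hUc tc htc using fun i => exists_of_invRat a hπ (hc i)
    let lc : ULift.{u} (Fin n) → L := fun i =>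
      Y.left.residue y₀ (Y.left.presheaf.germ (Uc i) y₀
        (((genericPoint_spec Y.left).specializes (Set.mem_univ _)).mem_open (Uc i).2 (hUc i)) (tc i))
    have hlc : ∀ i, e (c i) = algebraMap L _ (lc i) := fun i => by rw [← htc i]; exact key _ _ (hUc i) _
    have h0 := hs (fun i => lc ⟨i⟩) (by
      have := congrArg e hc0
      rw [map_zero, map_sum] at this
      rw [← this, ← Equiv.ulift.symm.sum_comp]
      refine Finset.sum_congr rfl fun i _ => ?_
      rw [map_mul, hlc, hgσ, hg, Algebra.smul_def]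
      rfl)
    funext i
    exact (map_eq_zero e).1 (by rw [hlc, show lc i = 0 from h0 i.down, map_zero])
  · intro T k h₁ i
    have h₂ : ∀ z, ((k ≫ genSnd (Γ := Γ)) ≫ X.left.fromSpecStalk (genericPoint X.left)) z ∈ V :=
      fun z => fromSpecStalk_gen_mem V _
    calc _ = pullSec (U i.down) ((k ≫ (genAct a).left) ≫ π.left) (fun z => hVU i.down (h₁ z)) (t i.down) :=
          (pullSec_res (hVU i.down) _ h₁ _).trans (pullSec_app π.left (U i.down) _ _ _)
      _ = pullSec (U i.down) (((k ≫ genSnd (Γ := Γ)) ≫ X.left.fromSpecStalk (genericPoint X.left)) ≫ π.left)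
            (fun z => hVU i.down (h₂ z)) (t i.down) :=
          pullSec_congr _ (by simp only [Category.assoc, hinv]) _ _ _
      _ = pullSec V ((k ≫ genSnd (Γ := Γ)) ≫ X.left.fromSpecStalk (genericPoint X.left)) h₂ (f i) :=
          ((pullSec_res (hVU i.down) _ h₂ _).trans (pullSec_app π.left (U i.down) _ _ _)).symm
      _ = _ := by
        rw [← pullSec_comp V (k ≫ genSnd (Γ := Γ)) _ (fromSpecStalk_gen_mem V) h₂, pullSec_fromSpecStalk,
          cst_comp]
        exact congrArg (fun q' => cst q' _) (Category.comp_id _)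
  · apply e.injective
    rw [map_sum, map_zero, ← hl, ← Equiv.ulift.symm.sum_comp]
    refine Finset.sum_congr rfl fun i _ => ?_
    rw [map_mul, map_pow, hgf, hgσ, hg, Algebra.smul_def]
    rfl

end Groth.Agent.GeomQuot4
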