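import Groth.Agent.AlgGrp79.Act
import Groth.Agent.SGA3a.QuotDiag
import Groth.Agent.SpFP87.Reduced
import Groth.Agent.GeomQuot4.PushLI

/-! The base change of an action to the function field. -/

universe u

open CategoryTheory CategoryTheory.Limits MonoidalCategory CartesianMonoidalCategory MonObj AlgebraicGeometry Opposite

set_option autoImplicit false
set_option backward.isDefEq.respectTransparency false
set_option backward.isDefEq.respectTransparency.types false

namespace Groth.Agent.GeomQuot4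

section Eval

variable {X T T' : Scheme.{u}}

theorem le_preimage {V : X.Opens} {p : T ⟶ X} (hp : ∀ t, p t ∈ V) : (⊤ : T.Opens) ≤ p ⁻¹ᵁ V :=
  fun t _ => hp t

/-- The pullback of a section along a morphism into an open subset. -/
noncomputable def pullSec (V : X.Opens) (p : T ⟶ X) (hp : ∀ t, p t ∈ V) : Γ(X, V) →+* Γ(T, ⊤) :=
  (p.appLE V ⊤ (le_preimage hp)).hom

theorem pullSec_comp (V : X.Opens) (b : T' ⟶ T) (p : T ⟶ X) (hp : ∀ t, p t ∈ V)
    (hbp : ∀ t, (b ≫ p) t ∈ V) (s : Γ(X, V)) :
    b.appTop (pullSec V p hp s) = pullSec V (b ≫ p) hbp s := by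
  change (p.appLE V ⊤ (le_preimage hp) ≫ b.appTop) s = ((b ≫ p).appLE V ⊤ (le_preimage hbp)) s
  rw [← Scheme.Hom.appLE_comp_appLE b p V ⊤ ⊤ (le_preimage hp) le_top]
  simp [Scheme.Hom.app_eq_appLE]

theorem pullSec_congr (V : X.Opens) {p p' : T ⟶ X} (e : p = p') (hp : ∀ t, p t ∈ V) (hp' : ∀ t, p' t ∈ V)
    (s : Γ(X, V)) : pullSec V p hp s = pullSec V p' hp' s := by
  subst e
  rfl

variable [IsIntegral X]

theorem fromSpecStalk_gen_mem (V : X.Opens) [Nonempty V] (t : Spec X.functionField) :
    X.fromSpecStalk (genericPoint X) t ∈ V := by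
  have : Subsingleton ↥(Spec X.functionField) :=
    inferInstanceAs (Subsingleton (PrimeSpectrum X.functionField))
  have ht : t = IsLocalRing.closedPoint X.functionField := Subsingleton.elim _ _
  rw [ht]
  erw [Scheme.fromSpecStalk_closedPoint]
  exact ((genericPoint_spec X).mem_open_set_iff V.isOpen).2 (by simpa using ‹Nonempty V›)

theorem pullSec_fromSpecStalk (V : X.Opens) [Nonempty V] (s : Γ(X, V)) :
    pullSec V (X.fromSpecStalk (genericPoint X)) (fromSpecStalk_gen_mem V) s =
      cst (𝟙 (Spec X.functionField)) (X.germToFunctionField V s) := by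
  have hxV : genericPoint X ∈ V :=
    ((genericPoint_spec X).mem_open_set_iff V.isOpen).2 (by simpa using ‹Nonempty V›)
  change ((X.fromSpecStalk (genericPoint X)).appLE V ⊤ _) s = _
  rw [Scheme.Hom.appLE, Scheme.fromSpecStalk_app hxV]
  simp only [CommRingCat.comp_apply, cst]
  rw [← CommRingCat.comp_apply ((Spec X.functionField).presheaf.map _)
    ((Spec X.functionField).presheaf.map _), ← Functor.map_comp]
  erw [CategoryTheory.Functor.map_id]
  rfl

/-- A point over the generic point is a homomorphism from the function field. -/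
theorem exists_hom_of_generic {E : Type u} [Field E] (p : Spec (CommRingCat.of E) ⟶ X)
    (hp : ∀ t, p t = genericPoint X) :
    ∃ φ : X.functionField ⟶ CommRingCat.of E, Spec.map φ ≫ X.fromSpecStalk (genericPoint X) = p := by
  obtain ⟨⟨x, φ, hφ⟩, rfl⟩ := (AlgebraicGeometry.SpecToEquivOfLocalRing X (CommRingCat.of E)).symm.surjective p
  have hx : (Spec.map φ ≫ X.fromSpecStalk x) (IsLocalRing.closedPoint E) = x := by
    rw [Scheme.Hom.comp_apply, Spec_closedPoint, Scheme.fromSpecStalk_closedPoint]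
  obtain rfl : x = genericPoint X := hx.symm.trans (hp _)
  exact ⟨φ, rfl⟩

theorem pullSec_generic (V : X.Opens) [Nonempty V] {E : CommRingCat.{u}} (φ : X.functionField ⟶ E)
    (h : ∀ t, (Spec.map φ ≫ X.fromSpecStalk (genericPoint X)) t ∈ V) (s : Γ(X, V)) :
    pullSec V (Spec.map φ ≫ X.fromSpecStalk (genericPoint X)) h s =
      cst (𝟙 (Spec E)) (φ (X.germToFunctionField V s)) := by
  rw [← pullSec_comp V (Spec.map φ) _ (fromSpecStalk_gen_mem V) h, pullSec_fromSpecStalk, cst_comp,
    Category.comp_id]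
  exact (congrArg (fun q => cst q (X.germToFunctionField V s)) (Category.id_comp _)).symm.trans
    (cst_comp_specMap (𝟙 _) φ _)

end Eval

section Act

variable {K : Type u} [Field K] {Γ X : Over (Spec (CommRingCat.of K))} [GrpObj Γ] [IsIntegral X.left]

/-- The spectrum of the function field. -/
noncomputable abbrev genObj (X : Over (Spec (CommRingCat.of K))) [IsIntegral X.left] :
    Over (Spec (CommRingCat.of K)) :=
  Over.mk (X.left.fromSpecStalk (genericPoint X.left) ≫ X.hom)

/-- The generic point. -/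
noncomputable abbrev genPt (X : Over (Spec (CommRingCat.of K))) [IsIntegral X.left] : genObj X ⟶ X :=
  Over.homMk (X.left.fromSpecStalk (genericPoint X.left))

variable (a : AlgGrp.Action Γ X)

/-- The action on the generic fibre. -/
noncomputable abbrev genAct : Γ ⊗ genObj X ⟶ X := (Γ ◁ genPt X) ≫ a.act

/-- The projection to the function field. -/
noncomputable abbrev genSnd : (Γ ⊗ genObj X).left ⟶ Spec X.left.functionField := (snd Γ (genObj X)).left

variable [Smooth Γ.hom]

instance smooth_act : Smooth a.act.left := AlgGrp79.act_left_prop a @Smooth ‹_›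

instance smooth_sndX : Smooth (snd Γ X).left :=
  MorphismProperty.pullback_snd (P := @Smooth) Γ.hom X.hom ‹_›

instance smooth_genSnd : Smooth (snd Γ (genObj X)).left :=
  MorphismProperty.pullback_snd (P := @Smooth) Γ.hom (genObj X).hom ‹_›

instance isReduced_prod : IsReduced (Γ ⊗ X).left := SpFP87.isReduced_of_smooth (snd Γ X).left

instance isReduced_gen : IsReduced (Γ ⊗ genObj X).left :=
  have : IsReduced (genObj X).left := inferInstanceAs (IsReduced (Spec X.left.functionField))
  SpFP87.isReduced_of_smooth (snd Γ (genObj X)).left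

theorem exists_maximal {Z : Scheme.{u}} (N : Z.Opens) (hN : (N : Set Z).Nonempty) :
    ∃ z ∈ N, ∀ y, y ⤳ z → y = z := by
  obtain ⟨x, hx⟩ := hN
  obtain ⟨θ, hθ⟩ := QuasiSober.sober (isIrreducible_irreducibleComponent (x := x)) isClosed_irreducibleComponent
  refine ⟨θ, (hθ.specializes mem_irreducibleComponent).mem_open N.2 hx, fun y hy => ?_⟩
  have h1 : closure ({θ} : Set Z) ⊆ closure {y} := specializes_iff_closure_subset.1 hy
  have h2 : closure ({θ} : Set Z) ∈ irreducibleComponents Z :=
    hθ.def ▸ irreducibleComponent_mem_irreducibleComponents x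
  exact (hy.antisymm (specializes_iff_closure_subset.2 (h2.2 isIrreducible_singleton.closure h1))).eq

theorem map_maximal {Z : Scheme.{u}} (f : Z ⟶ X.left) [Flat f] {z : Z} (hz : ∀ y, y ⤳ z → y = z) :
    f z = genericPoint X.left := by
  obtain ⟨y, hy, e⟩ := Flat.generalizingMap f ((genericPoint_spec X.left).specializes (Set.mem_univ (f z)))
  rw [← e, hz y hy]

theorem mem_range_genPt (z : ↥(Γ ⊗ X).left) (hz : (snd Γ X).left z = genericPoint X.left) :
    ∃ w, (Γ ◁ genPt X).left w = z := by
  obtain ⟨w, hw, -⟩ := Scheme.exists_preimage_of_isPullback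
    (SGA3a.QuotDiag.isPullback_whiskerLeft_snd Γ (genPt X)).flip z
    (IsLocalRing.closedPoint X.left.functionField) (by
      rw [hz]
      exact (Scheme.fromSpecStalk_closedPoint).symm)
  exact ⟨w, hw⟩

theorem exists_good (N : (Γ ⊗ genObj X).left.Opens) (hN : ∃ w, w ∈ N) :
    ∃ w ∈ N, (genAct a).left w = genericPoint X.left := by
  obtain ⟨w₀, hw₀⟩ := hN
  have : IsPreimmersion (Γ ◁ genPt X).left :=
    MorphismProperty.of_isPullback (P := @IsPreimmersion)
      (SGA3a.QuotDiag.isPullback_whiskerLeft_snd Γ (genPt X))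
      (inferInstanceAs (IsPreimmersion (X.left.fromSpecStalk (genericPoint X.left))))
  obtain ⟨N', hN', e⟩ :=
    ((Γ ◁ genPt X).left.isEmbedding.isInducing.isOpen_iff (s := (N : Set _))).1 N.isOpen
  obtain ⟨z, hzN, hz⟩ := exists_maximal ⟨N', hN'⟩ ⟨_, e.ge hw₀⟩
  obtain ⟨w, rfl⟩ := mem_range_genPt z (map_maximal (snd Γ X).left hz)
  exact ⟨w, e.le hzN, (Scheme.Hom.comp_apply _ _ _).trans (map_maximal a.act.left hz)⟩

theorem dense_genAct (V : X.left.Opens) [Nonempty V] :
    Dense ((genAct a).left ⁻¹' (V : Set X.left)) := by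
  rw [dense_iff_inter_open]
  intro N hN hNe
  obtain ⟨w, hw, e⟩ := exists_good a ⟨N, hN⟩ hNe
  exact ⟨w, hw, by
    rw [Set.mem_preimage, e]
    exact ((genericPoint_spec X.left).mem_open_set_iff V.isOpen).2 (by simpa using ‹Nonempty V›)⟩

omit [Smooth Γ.hom] in
theorem nonempty_gen : Nonempty ↥(Γ ⊗ genObj X).left :=
  ⟨(lift (1 : genObj X ⟶ Γ) (𝟙 _)).left (IsLocalRing.closedPoint X.left.functionField)⟩

/-- Sections of a reduced scheme vanishing near every point of a dense open are zero. -/
theorem eq_zero_of_dense {Z : Scheme.{u}} [IsReduced Z] (δ : Γ(Z, ⊤)) (O : Z.Opens) (hO : Dense (O : Set Z))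
    (h : O.ι.appTop δ = 0) : δ = 0 := by
  rw [← basicOpen_eq_bot_iff]
  by_contra hne
  obtain ⟨z, hz, hzO⟩ := hO.inter_open_nonempty _ (Z.basicOpen δ).2
    (Set.nonempty_iff_ne_empty.2 fun h' => hne (SetLike.coe_injective h'))
  have h1 : (⟨z, hzO⟩ : O.toScheme) ∈ O.ι ⁻¹ᵁ Z.basicOpen δ := hz
  rw [Scheme.preimage_basicOpen_top, h, Scheme.basicOpen_zero] at h1
  exact h1

/-- Sections on the product vanishing on the generic fibre are zero. -/
theorem eq_zero_of_genPt {W : Scheme.{u}} [IsReduced W] (j : W ⟶ (Γ ⊗ X).left) [IsOpenImmersion j]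
    (δ : Γ(W, ⊤))
    (h : ∀ w : W, (∀ y, y ⤳ w → y = w) → (W.fromSpecResidueField w).appTop δ = 0) : δ = 0 := by
  rw [← basicOpen_eq_bot_iff]
  by_contra hne
  obtain ⟨w, hw, hmax⟩ := exists_maximal (W.basicOpen δ)
    (Set.nonempty_iff_ne_empty.2 fun h' => hne (SetLike.coe_injective h'))
  have h0 := h w hmax
  have h1 : IsLocalRing.closedPoint (W.residueField w) ∈ W.fromSpecResidueField w ⁻¹ᵁ W.basicOpen δ := by
    change W.fromSpecResidueField w _ ∈ W.basicOpen δ
    rwa [W.fromSpecResidueField_apply]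
  rw [Scheme.preimage_basicOpen_top, h0, Scheme.basicOpen_zero] at h1
  exact h1

end Act

end Groth.Agent.GeomQuot4
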